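import Groth.Agent.Lib.FpqcFun14.Sheaf
import Groth.Agent.Lib.KFlat.Pullback
import Groth.Agent.Lib.ModM1.Exact
import Groth.Agent.Lib.ModM1.Pull
import Groth.Agent.Lib.FlatH4.FlatComp
import Groth.Agent.Lib.FlatH4.PullFlat
import Groth.Agent.Lib.SchDom.FlatStage
import Groth.Agent.Lib.HilbBC25.Basic

/-!
# Mono, epi, iso, zero and flatness along flat pullbacks of modules
-/

universe u

open CategoryTheory CategoryTheory.Limits AlgebraicGeometry Opposite
open scoped TensorProduct

set_option backward.isDefEq.respectTransparency false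

namespace Groth.Agent.FpqcFun14

section Stalk

open Groth.Agent.M2

variable {X Y : Scheme.{u}} (g : Y ⟶ X) {M N : X.Modules} (φ : M ⟶ N) (y : Y)

/-- The map on stalks of a pulled back morphism. -/
theorem pullback_stalk_eq :
    ⇑((M1.stalkAb y).map ((Scheme.Modules.pullback g).map φ)) =
      ⇑(pullStalkEquiv g y N) ∘ ⇑((KFlat.Sch.stk φ (g y)).lTensor (Y.presheaf.stalk y)) ∘
        ⇑(pullStalkEquiv g y M).symm := by
  funext a
  obtain ⟨t, rfl⟩ := (pullStalkEquiv g y M).surjective a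
  simpa using KFlat.Sch.pullStalkEquiv_naturality g φ y t

variable [Flat g]

theorem faithfullyFlat_stalk :
    Module.FaithfullyFlat (X.presheaf.stalk (g y)) (Y.presheaf.stalk y) := by
  haveI : Module.Flat (X.presheaf.stalk (g y)) (Y.presheaf.stalk y) := Flat.stalkMap g y
  haveI : IsLocalHom (algebraMap (X.presheaf.stalk (g y)) (Y.presheaf.stalk y)) :=
    inferInstanceAs (IsLocalHom (g.stalkMap y).hom)
  exact Module.FaithfullyFlat.of_flat_of_isLocalHom

theorem pullback_stalk_injective_iff :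
    Function.Injective ((M1.stalkAb y).map ((Scheme.Modules.pullback g).map φ)) ↔
      Function.Injective ((M1.stalkAb (g y)).map φ) := by
  haveI := faithfullyFlat_stalk g y
  rw [pullback_stalk_eq]
  exact (EquivLike.comp_injective _ (pullStalkEquiv g y N)).trans
    ((EquivLike.injective_comp (pullStalkEquiv g y M).symm _).trans
      (Module.FaithfullyFlat.lTensor_injective_iff_injective (X.presheaf.stalk (g y))
        (Y.presheaf.stalk y) (KFlat.Sch.stk φ (g y))))

theorem pullback_stalk_surjective_iff :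
    Function.Surjective ((M1.stalkAb y).map ((Scheme.Modules.pullback g).map φ)) ↔
      Function.Surjective ((M1.stalkAb (g y)).map φ) := by
  haveI := faithfullyFlat_stalk g y
  rw [pullback_stalk_eq]
  exact (EquivLike.comp_surjective _ (pullStalkEquiv g y N)).trans
    ((EquivLike.surjective_comp (pullStalkEquiv g y M).symm _).trans
      (Module.FaithfullyFlat.lTensor_surjective_iff_surjective (X.presheaf.stalk (g y))
        (Y.presheaf.stalk y) (KFlat.Sch.stk φ (g y))))

theorem eq_zero_of_pullback_stalk (h : (Scheme.Modules.pullback g).map φ = 0)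
    (a : M.presheaf.stalk (g y)) : (M1.stalkAb (g y)).map φ a = 0 := by
  haveI := faithfullyFlat_stalk g y
  have h0 := congrArg (fun ψ => (M1.stalkAb y).map ψ (pullStalkEquiv g y M (1 ⊗ₜ a))) h
  have h1 : (M1.stalkAb y).map (0 : (Scheme.Modules.pullback g).obj M ⟶ (Scheme.Modules.pullback g).obj N)
      (pullStalkEquiv g y M (1 ⊗ₜ a)) = 0 := by
    rw [Functor.map_zero]; rfl
  have h2 := ((KFlat.Sch.pullStalkEquiv_naturality g φ y (1 ⊗ₜ a)).symm.trans h0).trans h1
  have h3 : (1 : Y.presheaf.stalk y) ⊗ₜ[X.presheaf.stalk (g y)] (KFlat.Sch.stk φ (g y) a) = 0 :=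
    (pullStalkEquiv g y N).injective (h2.trans (map_zero _).symm)
  exact Module.FaithfullyFlat.tensorProduct_mk_injective (A := X.presheaf.stalk (g y))
    (B := Y.presheaf.stalk y) (N.presheaf.stalk (g y) : Type u) (h3.trans (TensorProduct.tmul_zero _ _).symm)

end Stalk

section Cover

variable {X : Scheme.{u}} {M N : X.Modules} (φ : M ⟶ N)

theorem mono_of_cover (h : ∀ x : X, ∃ (Y : Scheme.{u}) (g : Y ⟶ X), Flat g ∧ x ∈ Set.range g ∧
    Mono ((Scheme.Modules.pullback g).map φ)) : Mono φ := by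
  refine (M1.mono_iff_stalk φ).2 fun x => ?_
  obtain ⟨Y, g, _, ⟨y, rfl⟩, hm⟩ := h x
  exact (pullback_stalk_injective_iff g φ y).1 ((M1.mono_iff_stalk _).1 hm y)

theorem mono_pullback_of_flat {Y : Scheme.{u}} (g : Y ⟶ X) [Flat g] [Mono φ] :
    Mono ((Scheme.Modules.pullback g).map φ) :=
  (M1.mono_iff_stalk _).2 fun y =>
    (pullback_stalk_injective_iff g φ y).2 ((M1.mono_iff_stalk φ).1 inferInstance _)

theorem epi_of_cover (h : ∀ x : X, ∃ (Y : Scheme.{u}) (g : Y ⟶ X), Flat g ∧ x ∈ Set.range g ∧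
    Epi ((Scheme.Modules.pullback g).map φ)) : Epi φ := by
  refine (M1.epi_iff_stalk φ).2 fun x => ?_
  obtain ⟨Y, g, _, ⟨y, rfl⟩, hm⟩ := h x
  exact (pullback_stalk_surjective_iff g φ y).1 ((M1.epi_iff_stalk _).1 hm y)

theorem isIso_of_cover (h : ∀ x : X, ∃ (Y : Scheme.{u}) (g : Y ⟶ X), Flat g ∧ x ∈ Set.range g ∧
    IsIso ((Scheme.Modules.pullback g).map φ)) : IsIso φ := by
  refine (M1.isIso_iff_stalk φ).2 fun x => ?_
  obtain ⟨Y, g, _, ⟨y, rfl⟩, hm⟩ := h x
  exact ⟨(pullback_stalk_injective_iff g φ y).1 ((M1.isIso_iff_stalk _).1 hm y).1,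
    (pullback_stalk_surjective_iff g φ y).1 ((M1.isIso_iff_stalk _).1 hm y).2⟩

theorem eq_zero_of_cover (h : ∀ x : X, ∃ (Y : Scheme.{u}) (g : Y ⟶ X), Flat g ∧ x ∈ Set.range g ∧
    (Scheme.Modules.pullback g).map φ = 0) : φ = 0 := by
  refine Scheme.Modules.hom_ext _ _ fun U => ?_
  ext s
  refine M1.section_ext _ _ fun x hx => ?_
  obtain ⟨Y, g, _, ⟨y, rfl⟩, hm⟩ := h x
  rw [← M1.germ_naturality φ U (g y) hx s, eq_zero_of_pullback_stalk g φ y hm]
  simp

end Cover

section Over

variable {X S : Scheme.{u}} (f : X ⟶ S) {F G : X.Modules} (u : F ⟶ G) {T T' : Over S} (k : T' ⟶ T)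

/-- Pulling back in two steps along `X_{T'} ⟶ X_T ⟶ X`. -/
noncomputable def arrIso :
    Arrow.mk ((Scheme.Modules.pullback (PicF.XTmap f k)).map
        ((Scheme.Modules.pullback (pullback.fst f T.hom)).map u)) ≅
      Arrow.mk ((Scheme.Modules.pullback (pullback.fst f T'.hom)).map u) :=
  let e := Scheme.Modules.pullbackComp (PicF.XTmap f k) (pullback.fst f T.hom) ≪≫
    Scheme.Modules.pullbackCongr (HilbBC25.XTmap_fst f k)
  Arrow.isoMk (e.app F) (e.app G) (e.hom.naturality u).symm

theorem eq_zero_iff_map :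
    (Scheme.Modules.pullback (PicF.XTmap f k)).map
        ((Scheme.Modules.pullback (pullback.fst f T.hom)).map u) = 0 ↔
      (Scheme.Modules.pullback (pullback.fst f T'.hom)).map u = 0 := by
  let e := Scheme.Modules.pullbackComp (PicF.XTmap f k) (pullback.fst f T.hom) ≪≫
    Scheme.Modules.pullbackCongr (HilbBC25.XTmap_fst f k)
  have hw := e.hom.naturality u
  constructor <;> intro h
  · refine (cancel_epi (e.hom.app F)).1 ?_
    rw [← hw, comp_zero]
    exact (congrArg (fun q => q ≫ e.hom.app G) h).trans zero_comp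
  · refine (cancel_mono (e.hom.app G)).1 ?_
    rw [zero_comp]
    exact hw.trans ((congrArg (fun q => e.hom.app F ≫ q) h).trans comp_zero)

theorem mono_iff_map :
    Mono ((Scheme.Modules.pullback (PicF.XTmap f k)).map
        ((Scheme.Modules.pullback (pullback.fst f T.hom)).map u)) ↔
      Mono ((Scheme.Modules.pullback (pullback.fst f T'.hom)).map u) :=
  (MorphismProperty.monomorphisms _).arrow_mk_iso_iff (arrIso f u k)

theorem epi_iff_map :
    Epi ((Scheme.Modules.pullback (PicF.XTmap f k)).map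
        ((Scheme.Modules.pullback (pullback.fst f T.hom)).map u)) ↔
      Epi ((Scheme.Modules.pullback (pullback.fst f T'.hom)).map u) :=
  (MorphismProperty.epimorphisms _).arrow_mk_iso_iff (arrIso f u k)

theorem isIso_iff_map :
    IsIso ((Scheme.Modules.pullback (PicF.XTmap f k)).map
        ((Scheme.Modules.pullback (pullback.fst f T.hom)).map u)) ↔
      IsIso ((Scheme.Modules.pullback (pullback.fst f T'.hom)).map u) :=
  (MorphismProperty.isomorphisms _).arrow_mk_iso_iff (arrIso f u k)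

/-- `X_{T'} ⟶ X_T` is flat when `T' ⟶ T` is. -/
theorem flat_XTmap [Flat k.left] : Flat (PicF.XTmap f k) :=
  MorphismProperty.of_isPullback (P := @Flat) (HilbBC25.isPullback_XTmap f k).flip inferInstance

/-- Points of `X_T` are covered by the pieces of a flat cover of `T`. -/
theorem exists_XTmap {P : Over S → Prop} (h : ∀ t : T.left, ∃ (T' : Over S) (k : T' ⟶ T),
      Flat k.left ∧ t ∈ Set.range k.left ∧ P T') (x : ↥(PicF.XT f T)) :
    ∃ (T' : Over S) (k : T' ⟶ T), Flat (PicF.XTmap f k) ∧ x ∈ Set.range (PicF.XTmap f k) ∧ P T' := by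
  obtain ⟨T', k, _, ⟨t', ht⟩, hP⟩ := h (PicF.XTproj f T x)
  obtain ⟨z, hz, -⟩ := Scheme.exists_preimage_of_isPullback (HilbBC25.isPullback_XTmap f k) x t' ht.symm
  exact ⟨T', k, flat_XTmap f k, ⟨z, hz⟩, hP⟩

end Over

section FlatFunctor

variable {X S : Scheme.{u}} (f : X ⟶ S) (F : X.Modules) [Coh.IsQCoh F] {T T' : Over S}

/-- The two-step base change of a module. -/
noncomputable def ETIso (k : T' ⟶ T) :
    (Scheme.Modules.pullback (PicF.XTmap f k)).obj (FGA.ET f F T) ≅ FGA.ET f F T' :=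
  (Scheme.Modules.pullbackComp (PicF.XTmap f k) (pullback.fst f T.hom) ≪≫
    Scheme.Modules.pullbackCongr (HilbBC25.XTmap_fst f k)).app F

theorem isFlatOver_of_hom (k : T' ⟶ T)
    (h : FlatMod.IsFlatOver (PicF.XTproj f T) (FGA.ET f F T)) :
    FlatMod.IsFlatOver (PicF.XTproj f T') (FGA.ET f F T') := fun x => by
  haveI : Coh.IsQCoh (FGA.ET f F T) := M1.isQCoh_pullback _ inferInstance
  exact SchDom.isFlatOverAt_of_iso _ (ETIso f F k) x
    (FlatH4.isFlatOverAt_baseChange (HilbBC25.isPullback_XTmap f k) _ x (h _))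

theorem isFlatOver_of_cover (h : ∀ t : T.left, ∃ (T' : Over S) (k : T' ⟶ T),
      Flat k.left ∧ t ∈ Set.range k.left ∧
        FlatMod.IsFlatOver (PicF.XTproj f T') (FGA.ET f F T')) :
    FlatMod.IsFlatOver (PicF.XTproj f T) (FGA.ET f F T) := fun x => by
  obtain ⟨T', k, hk, ⟨t', ht⟩, hP⟩ := h (PicF.XTproj f T x)
  obtain ⟨z, rfl, hz⟩ := Scheme.exists_preimage_of_isPullback (HilbBC25.isPullback_XTmap f k) x t' ht.symm
  exact FlatH4.isFlatOverAt_of_baseChange_of_flat (HilbBC25.isPullback_XTmap f k) _ z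
    (Flat.stalkMap k.left _) (SchDom.isFlatOverAt_of_iso _ (ETIso f F k).symm z (hP z))

end FlatFunctor

end Groth.Agent.FpqcFun14
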