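import Groth.Prelude.Def_FlatFun
import Groth.Prelude.Def_QuotSh
import Mathlib.AlgebraicGeometry.Sites.Fpqc

/-!
# The fpqc sheaf condition for `genPSp`
-/

universe u

open CategoryTheory CategoryTheory.Limits AlgebraicGeometry Opposite

set_option backward.isDefEq.respectTransparency false

namespace Groth.Agent.FpqcFun14

variable {S : Scheme.{u}}

/-- Points are covered by flat members of an fpqc covering presieve. -/
theorem exists_flat_of_mem {T : Scheme.{u}} {R : Presieve T}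
    (hR : R ∈ Scheme.fpqcPrecoverage T) (x : T) :
    ∃ (Y : Scheme.{u}) (g : Y ⟶ T), R g ∧ Flat g ∧ x ∈ Set.range g := by
  obtain ⟨E, rfl⟩ := Precoverage.mem_iff_exists_zeroHypercover.mp hR
  obtain ⟨h1, h2⟩ := (Scheme.ofArrows_mem_precoverage_iff @Flat).mp E.mem₀.2
  obtain ⟨i, y, hy⟩ := h1 x
  exact ⟨E.X i, E.f i, ⟨i⟩, h2 i, y, hy⟩

/-- Points are covered by flat members of an fpqc covering sieve. -/
theorem exists_flat_of_mem_over {T : Over S} {R : Sieve T}
    (hR : R ∈ QuotSh.J Scheme.fpqcPrecoverage S T) (x : T.left) :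
    ∃ (T' : Over S) (g : T' ⟶ T), R g ∧ Flat g.left ∧ x ∈ Set.range g.left := by
  rw [GrothendieckTopology.mem_over_iff,
    Precoverage.mem_toGrothendieck_iff_of_isStableUnderComposition] at hR
  obtain ⟨R₀, hR₀, hle⟩ := hR
  obtain ⟨Y, g, hg, hfl, hx⟩ := exists_flat_of_mem hR₀ x
  have h := hle _ _ hg
  rw [Sieve.overEquiv_iff] at h
  exact ⟨_, _, h, hfl, hx⟩

/-- `genPSp P` is an fpqc sheaf when `P` is stable and can be checked on flat neighbourhoods. -/
theorem isSheaf_genPSp (P : Over S → Prop)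
    (hP : ∀ ⦃T T₀ : Over S⦄ (_ : T ⟶ T₀), P T₀ → P T)
    (hloc : ∀ T : Over S, (∀ x : T.left, ∃ (T' : Over S) (g : T' ⟶ T),
      Flat g.left ∧ x ∈ Set.range g.left ∧ P T') → P T) :
    Presheaf.IsSheaf (QuotSh.J Scheme.fpqcPrecoverage S) (FlatFun.genPSp S P) := by
  rw [isSheaf_iff_isSheaf_of_type]
  intro T R hR fam _
  have hT : P T := hloc T fun x => by
    obtain ⟨T', g, hg, hfl, hx⟩ := exists_flat_of_mem_over hR x
    exact ⟨T', g, hfl, hx, (FlatFun.genPSp_nonempty_iff_of_stable P hP T').1 ⟨fam g hg⟩⟩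
  obtain ⟨t⟩ := FlatFun.genPSp_nonempty_of P hT
  exact ⟨t, fun Y g hg => Subsingleton.elim _ _, fun t' _ => Subsingleton.elim _ _⟩

end Groth.Agent.FpqcFun14
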